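import Cfsg.Agent.HN.Red
import Cfsg.Agent.HN.A12Group
import Cfsg.Agent.HN.XWords

/-!
# S3938, row `HN`: six words of order 19 (helper546)

`x` of order 19 and `a(x) x²` of order 11, `a = conj (h) ∘ θ`, `h ∈ {x, z, d} × {1, τ}`; `θ : x ↦ x, y ↦ y, z ↦ z x²,
t ↦ t²` the outer automorphism.
-/

set_option autoImplicit false
set_option Elab.async false

namespace Cfsg.Agent.H546.SH

open Cfsg.Agent.Lib.PackMat Cfsg.Agent.Lib.PackMatGroup Cfsg.Agent.Lib.PackMatMul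
open Cfsg.Agent.HN.RepData Cfsg.Agent.HN.Rep Cfsg.Agent.HN.Red
open Cfsg.Agent.HN.XWords (V V_append)

/-- inverse letter -/
def il (c : ℕ) : ℕ := match c with
  | 0 => 1
  | 1 => 0
  | 2 => 3
  | 3 => 2
  | 4 => 4
  | 6 => 7
  | 7 => 6
  | n => n

/-- the inverse word -/
def iv (w : List ℕ) : List ℕ := (w.map il).reverse

theorem V_il {c : ℕ} (hc : c < 8) (h5 : c ≠ 5) : gens.getD (il c) 1 = (gens.getD c 1)⁻¹ := by
  have h0 : c = 0 ∨ c = 1 ∨ c = 2 ∨ c = 3 ∨ c = 4 ∨ c = 6 ∨ c = 7 := by omega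
  rcases h0 with rfl | rfl | rfl | rfl | rfl | rfl | rfl
  · rfl
  · exact (inv_inv _).symm
  · rfl
  · exact (inv_inv _).symm
  · exact (inv_eq_of_mul_eq_one_left Cfsg.Agent.HN.XWords.zz).symm
  · rfl
  · exact (inv_inv _).symm

theorem V_iv (w : List ℕ) (hw : ∀ c ∈ w, c < 8 ∧ c ≠ 5) : V (iv w) = (V w)⁻¹ := by
  induction w with
  | nil => exact inv_one.symm
  | cons c w ih =>
    have h1 : iv (c :: w) = iv w ++ [il c] := by simp [iv]
    have h2 : V [il c] = gens.getD (il c) 1 := mul_one _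
    rw [h1, V_append, ih fun d hd => hw d (List.mem_cons_of_mem _ hd), h2,
      V_il (hw c List.mem_cons_self).1 (hw c List.mem_cons_self).2, Cfsg.Agent.HN.XWords.V_cons, mul_inv_rev]

/-- the image of a letter under `θ` -/
def sb (c : ℕ) : List ℕ := match c with
  | 4 => [4, 0, 0]
  | 6 => [6, 6]
  | 7 => [7, 7]
  | n => [n]

section theta

variable {θ : Cfsg.Spor.HN →* Cfsg.Spor.HN} (hx : θ Cfsg.Agent.HN.Pres.hx = Cfsg.Agent.HN.Pres.hx)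
  (hy : θ Cfsg.Agent.HN.Pres.hy = Cfsg.Agent.HN.Pres.hy)
  (hz : θ Cfsg.Agent.HN.Pres.hz = Cfsg.Agent.HN.Pres.hz * Cfsg.Agent.HN.Pres.hx ^ 2)
  (ht : θ Cfsg.Agent.HN.Pres.ht = Cfsg.Agent.HN.Pres.ht ^ 2)

include hx hy hz ht

/-- after helper793 (`H793.G5.Theta.theta_letter`) -/
theorem theta_letter (c : ℕ) (hc : c < 8) (h5 : c ≠ 5) : θ (gens.getD c 1) = V (sb c) := by
  have h0 : c = 0 ∨ c = 1 ∨ c = 2 ∨ c = 3 ∨ c = 4 ∨ c = 6 ∨ c = 7 := by omega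
  rcases h0 with rfl | rfl | rfl | rfl | rfl | rfl | rfl
  · show θ Cfsg.Agent.HN.Pres.hx = Cfsg.Agent.HN.Pres.hx * 1
    rw [hx, mul_one]
  · show θ Cfsg.Agent.HN.Pres.hx⁻¹ = Cfsg.Agent.HN.Pres.hx⁻¹ * 1
    rw [map_inv, hx, mul_one]
  · show θ Cfsg.Agent.HN.Pres.hy = Cfsg.Agent.HN.Pres.hy * 1
    rw [hy, mul_one]
  · show θ Cfsg.Agent.HN.Pres.hy⁻¹ = Cfsg.Agent.HN.Pres.hy⁻¹ * 1
    rw [map_inv, hy, mul_one]
  · show θ Cfsg.Agent.HN.Pres.hz = Cfsg.Agent.HN.Pres.hz * (Cfsg.Agent.HN.Pres.hx * (Cfsg.Agent.HN.Pres.hx * 1))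
    rw [hz, mul_one, pow_two]
  · show θ Cfsg.Agent.HN.Pres.ht = Cfsg.Agent.HN.Pres.ht * (Cfsg.Agent.HN.Pres.ht * 1)
    rw [ht, mul_one, pow_two]
  · show θ Cfsg.Agent.HN.Pres.ht⁻¹ = Cfsg.Agent.HN.Pres.ht⁻¹ * (Cfsg.Agent.HN.Pres.ht⁻¹ * 1)
    rw [map_inv, ht, mul_one, pow_two, mul_inv_rev]

theorem theta_V (w : List ℕ) (hw : ∀ c ∈ w, c < 8 ∧ c ≠ 5) : θ (V w) = V (w.flatMap sb) := by
  induction w with
  | nil => exact map_one θ
  | cons c w ih =>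
    rw [Cfsg.Agent.HN.XWords.V_cons, map_mul, List.flatMap_cons, V_append,
      ih fun d hd => hw d (List.mem_cons_of_mem _ hd),
      theta_letter hx hy hz ht c (hw c List.mem_cons_self).1 (hw c List.mem_cons_self).2]

/-- the word of `a(x) x²` -/
theorem a_word (ρ w : List ℕ) (hρ : ∀ c ∈ ρ, c < 8 ∧ c ≠ 5) (hw : ∀ c ∈ w, c < 8 ∧ c ≠ 5) :
    V (ρ ++ (w.flatMap sb ++ (iv ρ ++ (w ++ w)))) = V ρ * θ (V w) * (V ρ)⁻¹ * V w * V w := by
  rw [V_append, V_append, V_append, V_append, V_iv ρ hρ, theta_V hx hy hz ht w hw]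
  group

end theta

/-- orders of words in `HN` from the matrices -/
theorem ord_of {i : ℕ} {w : List ℕ} {bits : List Bool} (h : ordC C L i w bits = true) :
    V (i :: w) ^ bval bits 1 = 1 ∧ V (i :: w) ≠ 1 := by
  have hs : IsSimpleGroup Cfsg.Spor.HN := Cfsg.Agent.S1701.result.1
  obtain ⟨h1, h2⟩ := ordC_spec hgood one_lt codesR h
  have hr : rho (V (i :: w)) = evG LG (i :: w) := rho_word _
  constructor
  · apply Cfsg.Agent.HN.A12Group.rho_injective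
    rw [map_pow, hr, h1, map_one]
  · intro h3
    apply h2
    rw [← hr, h3, map_one]

theorem c0 : ordC C L 3 [7, 1, 2, 4, 7, 3] [false, false, true, true] = true := by decide +kernel
theorem d0 : ordC C L 0 [3, 7, 7, 1, 2, 4, 0, 0, 7, 7, 3, 1, 3, 7, 1, 2, 4, 7, 3, 3, 7, 1, 2, 4, 7, 3]
    [false, true, true] = true := by decide +kernel
theorem c1 : ordC C L 2 [4, 3, 1, 2, 6] [false, false, true, true] = true := by decide +kernel
theorem d1 : ordC C L 0 [0, 0, 2, 4, 0, 0, 3, 1, 2, 6, 6, 1, 1, 1, 2, 4, 3, 1, 2, 6, 2, 4, 3, 1, 2, 6]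
    [false, true, true] = true := by decide +kernel
theorem c2 : ordC C L 4 [3, 1, 2, 2, 7] [false, false, true, true] = true := by decide +kernel
theorem d2 : ordC C L 4 [4, 0, 0, 3, 1, 2, 2, 7, 7, 4, 4, 3, 1, 2, 2, 7, 4, 3, 1, 2, 2, 7]
    [false, true, true] = true := by decide +kernel
theorem c3 : ordC C L 3 [3, 1, 6, 2, 4] [false, false, true, true] = true := by decide +kernel
theorem d3 : ordC C L 4 [0, 0, 3, 3, 1, 6, 6, 2, 4, 0, 0, 1, 1, 4, 3, 3, 1, 6, 2, 4, 3, 3, 1, 6, 2, 4]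
    [false, true, true] = true := by decide +kernel
theorem c4 : ordC C L 6 [4, 6, 1, 3, 4, 3] [false, false, true, true] = true := by decide +kernel
theorem d4 : ordC C L 1 [3, 1, 2, 1, 4, 3, 4, 2, 4, 6, 6, 4, 0, 0, 6, 6, 1, 3, 4, 0, 0, 3, 4, 3, 4, 2, 4, 0, 3, 0, 2, 0,
    6, 4, 6, 1, 3, 4, 3, 6, 4, 6, 1, 3, 4, 3] [false, true, true] = true := by decide +kernel
theorem c5 : ordC C L 0 [6, 4, 6, 3, 4, 3] [false, false, true, true] = true := by decide +kernel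
theorem d5 : ordC C L 1 [3, 1, 2, 1, 4, 3, 4, 2, 4, 0, 0, 0, 6, 6, 4, 0, 0, 6, 6, 3, 4, 0, 0, 3, 1, 1, 4, 3, 4, 2, 4, 0, 3,
    0, 2, 0, 0, 6, 4, 6, 3, 4, 3, 0, 6, 4, 6, 3, 4, 3] [false, true, true] = true := by decide +kernel

end Cfsg.Agent.H546.SH
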