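import Cfsg.Agent.H546.SH.FixTwo
import Cfsg.Agent.H546.SH.Words
import Cfsg.Agent.H997.OutHN
import Cfsg.Agent.H315.Spr.HNBad

/-!
# S3938, row `HN`: the outer involutory automorphisms (helper546)

`hn_outer` : an outer involutory automorphism `a` of `HN` has an `x` such that no proper `a`-invariant subgroup contains `x`.
Up to conjugacy `a = conj (ψ h) α` with `h ∈ {gx, gz, d} × {1, τ}` and `x` is an explicit word of order 19 such that
`a(x) x²` has order 11.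
-/

set_option autoImplicit false

namespace Cfsg.Agent.H546.SH

open Subgroup Cfsg
open Cfsg.Agent.HN Cfsg.Agent.HN.Pres Cfsg.Agent.HN.P1408 Cfsg.Agent.HN.H0Basic
open Cfsg.Agent.HN.HS100 (K K_normal gx_mem)
open Cfsg.Agent.HN.XWords (V V_append V_hw)
open Cfsg.Agent.H997.OutHN (twist twist_gx twist_gy twist_gz twist_of_mem twist_of_not ψ_τ)
open Cfsg.Agent.Lib.PackMatGroup Cfsg.Agent.Lib.PackMatMul
open Cfsg.Agent.H609.TH (GoodA)

/-! ### the automorphism `α` -/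

open Cfsg.Agent.H997.OutHN (simple' exists_end) in
/-- the outer automorphism of `HN`, with its values (after helper68, `H68.DG.CosHN.exists_outer'`) -/
theorem exists_outer' : ∃ α : MulAut Cfsg.Spor.HN, (∀ g : Cfsg.Spor.HN, α ≠ MulAut.conj g) ∧ α Pres.hx = Pres.hx ∧
    α Pres.hy = Pres.hy ∧ α Pres.hz = Pres.hz * Pres.hx ^ 2 ∧ α Pres.ht = Pres.ht ^ 2 := by
  have hs := simple'
  have hfin := KFacts.HN.finite_HN
  obtain ⟨θ, hx, hy, hz, ht⟩ := exists_end
  have hx2 : Pres.hx ^ 2 ≠ 1 := by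
    rw [← ψ_τ]
    intro h
    exact KFacts.HN.emb.ne (KFacts.HN.emb.inj (h.trans (map_one _).symm))
  have hinj : Function.Injective θ := by
    rw [← MonoidHom.ker_eq_bot_iff]
    rcases IsSimpleGroup.eq_bot_or_eq_top_of_normal θ.ker inferInstance with h | h
    · exact h
    · exfalso
      have h1 : Pres.hx ∈ θ.ker := by rw [h]; exact Subgroup.mem_top _
      rw [MonoidHom.mem_ker, hx] at h1
      exact hx2 (by rw [h1, one_pow])
  refine ⟨MulEquiv.ofBijective θ (Finite.injective_iff_bijective.1 hinj), ?_, hx, hy, hz, ht⟩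
  intro g hg
  have happ : ∀ u : Cfsg.Spor.HN, θ u = g * u * g⁻¹ := fun u =>
    congrArg (fun β : MulAut Cfsg.Spor.HN => β u) hg
  have hcomp : θ.comp NormalH.ψ = NormalH.ψ.comp twist := by
    refine MonoidHom.eq_of_eqOn_dense closure_gens ?_
    rintro h (rfl | rfl | rfl)
    · rw [MonoidHom.comp_apply, MonoidHom.comp_apply, twist_gx, NormalH.ψ_gx, hx]
    · rw [MonoidHom.comp_apply, MonoidHom.comp_apply, twist_gy, NormalH.ψ_gy, hy]
    · rw [MonoidHom.comp_apply, MonoidHom.comp_apply, twist_gz, map_mul, NormalH.ψ_gz, ψ_τ, hz]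
  have hc : ∀ u : Cfsg.Spor.HN, θ u = u → g * u = u * g := by
    intro u hu
    rw [happ] at hu
    exact mul_inv_eq_iff_eq_mul.1 hu
  have hgτ : g * NormalH.ψ τ = NormalH.ψ τ * g := by
    apply hc
    rw [ψ_τ, map_pow, hx]
  obtain ⟨h, rfl⟩ := KFacts.HN.emb.cent g hgτ
  have hK : ∀ k ∈ K, h * k = k * h := by
    intro k hk
    apply KFacts.HN.emb.inj
    rw [map_mul, map_mul]
    apply hc
    have h1 := congrArg (fun f : H0 →* Cfsg.Spor.HN => f k) hcomp
    simp only [MonoidHom.comp_apply] at h1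
    rw [h1, twist_of_mem hk]
  have hz' : θ Pres.hz = Pres.hz := by
    rw [happ, mul_inv_eq_iff_eq_mul, ← NormalH.ψ_gz, ← map_mul, ← map_mul]
    rcases StepFive.eq_of_comm_K hK with rfl | rfl
    · rw [one_mul, mul_one]
    · rw [τ_comm]
  rw [hz] at hz'
  exact hx2 (mul_eq_left.1 hz')

open Cfsg.Agent.H997.OutHN (rel_zt) in
open Cfsg.Agent.KFacts.HN (emb) in
/-- (after helper748, `H748.SK.HNTwist`) -/
theorem ht_ne : Pres.ht ≠ 1 := by
  intro h
  have h1 := rel_zt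
  -- `(z x² t²)³ = 1` with `t = 1` gives `(hz hx²)³ = 1`
  rw [h, one_pow, mul_one, ← ψ_τ, ← NormalH.ψ_gz, ← map_mul, ← map_pow] at h1
  have h2 : (gz * τ) ^ 3 = 1 := emb.inj (h1.trans (map_one _).symm)
  have h3 : gz * gz = 1 := by rw [← pow_two]; exact rels_H0.r7
  have h4 : (gz * τ) ^ 2 = 1 := by
    rw [pow_two]
    calc gz * τ * (gz * τ) = gz * (τ * gz) * τ := by group
      _ = gz * (gz * τ) * τ := by rw [τ_comm gz]
      _ = gz * gz * (τ * τ) := by group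
      _ = 1 := by rw [h3, τ_mul_τ, mul_one]
  have h5 : gz * τ = 1 := by
    rw [pow_succ, h4, one_mul] at h2
    exact h2
  have h6 : gz ∈ K := by
    rw [mul_eq_one_iff_eq_inv.1 h5]
    exact inv_mem τ_mem_K
  exact HS100.gz_not_mem h6

/-- every outer automorphism is `conj c * α` (after helper748, `H748.SK.HNTwist`) -/
theorem exists_mul {α β : MulAut Cfsg.Spor.HN} (hα : ∀ g : Cfsg.Spor.HN, α ≠ MulAut.conj g)
    (hβ : ∀ g : Cfsg.Spor.HN, β ≠ MulAut.conj g) : ∃ c : Cfsg.Spor.HN, β = MulAut.conj c * α := by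
  set I := (MulAut.conj : Cfsg.Spor.HN →* MulAut Cfsg.Spor.HN).range with hI
  have h1 : α ∉ I := by
    rintro ⟨g, hg⟩
    exact hα g hg.symm
  have h2 : β ∉ I := by
    rintro ⟨g, hg⟩
    exact hβ g hg.symm
  have h3 : I.index = 2 := by
    rcases KFacts.HN.out_index with h | h
    · exfalso
      rw [Subgroup.index_eq_one] at h
      exact h1 (by rw [hI, h]; exact Subgroup.mem_top _)
    · exact h
  have h4 : β * α⁻¹ ∈ I := by
    rw [Subgroup.mul_mem_iff_of_index_two h3]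
    exact iff_of_false h2 (fun h => h1 (by simpa using inv_mem h))
  obtain ⟨c, hc⟩ := h4
  exact ⟨c, by rw [hc]; group⟩

section alpha

variable {α : MulAut Cfsg.Spor.HN} (hx : α Pres.hx = Pres.hx) (hy : α Pres.hy = Pres.hy)
  (hz : α Pres.hz = Pres.hz * Pres.hx ^ 2) (ht : α Pres.ht = Pres.ht ^ 2)

include hx hy hz in
theorem alpha_ψ (h : H0) : α (NormalH.ψ h) = NormalH.ψ (twist h) := by
  have hcomp : α.toMonoidHom.comp NormalH.ψ = NormalH.ψ.comp twist := by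
    refine MonoidHom.eq_of_eqOn_dense closure_gens ?_
    rintro h (rfl | rfl | rfl)
    · rw [MonoidHom.comp_apply, MonoidHom.comp_apply, twist_gx, NormalH.ψ_gx]
      exact hx
    · rw [MonoidHom.comp_apply, MonoidHom.comp_apply, twist_gy, NormalH.ψ_gy]
      exact hy
    · rw [MonoidHom.comp_apply, MonoidHom.comp_apply, twist_gz, map_mul, NormalH.ψ_gz, ψ_τ]
      exact hz
  exact congrArg (fun f : H0 →* Cfsg.Spor.HN => f h) hcomp

include ht in
theorem alpha_sq_ne : α * α ≠ 1 := by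
  intro h
  have h1 : α (α Pres.ht) = Pres.ht := DFunLike.congr_fun h Pres.ht
  rw [ht, map_pow, ht, ← pow_mul] at h1
  have h5 := Cfsg.Agent.H997.OutHN.rel_t5
  have h3 : Pres.ht ^ 3 = 1 := by
    have h2 : Pres.ht ^ 3 * Pres.ht = 1 * Pres.ht := by
      rw [← pow_succ, one_mul]
      exact h1
    exact mul_right_cancel h2
  have h4 : Pres.ht = 1 := by
    calc Pres.ht = Pres.ht ^ 5 * Pres.ht ^ 5 * (Pres.ht ^ 3 * Pres.ht ^ 3 * Pres.ht ^ 3)⁻¹ := by group
      _ = 1 := by rw [h5, h3]; group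
  exact ht_ne h4

end alpha

theorem mul_conj {G : Type*} [Group G] (α : MulAut G) (y : G) : α * MulAut.conj y = MulAut.conj (α y) * α := by
  ext u
  rw [MulAut.mul_apply, MulAut.mul_apply, MulAut.conj_apply, MulAut.conj_apply, map_mul, map_mul, map_inv]

/-- the words of the representatives -/
def reps : List (List ℕ) := [[0], [0, 0, 0], [4], [4, 0, 0], [1, 3, 1, 2, 1, 4, 3, 4, 2, 4],
  [1, 3, 1, 2, 1, 4, 3, 4, 2, 4, 0, 0]]

theorem mem_reps {r : H0} (hr : r = gx ∨ r = gz ∨ r = Syl.d) {s : H0} (hs : s = r ∨ s = r * τ) :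
    ∃ ρ ∈ reps, NormalH.ψ s = V ρ := by
  have e0 : NormalH.ψ gx = V [0] := by rw [NormalH.ψ_gx]; exact (mul_one _).symm
  have e1 : NormalH.ψ gz = V [4] := by rw [NormalH.ψ_gz]; exact (mul_one _).symm
  have e2 : NormalH.ψ Syl.d = V [1, 3, 1, 2, 1, 4, 3, 4, 2, 4] := V_hw (by decide +kernel)
  have e3 : NormalH.ψ τ = V [0, 0] := by
    rw [ψ_τ, pow_two]
    exact congrArg (Pres.hx * ·) (mul_one _).symm
  rcases hr with rfl | rfl | rfl <;> rcases hs with rfl | rfl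
  · exact ⟨[0], by simp [reps], e0⟩
  · exact ⟨[0] ++ [0, 0], by simp [reps], by rw [map_mul, e0, e3, V_append]⟩
  · exact ⟨[4], by simp [reps], e1⟩
  · exact ⟨[4] ++ [0, 0], by simp [reps], by rw [map_mul, e1, e3, V_append]⟩
  · exact ⟨[1, 3, 1, 2, 1, 4, 3, 4, 2, 4], by simp [reps], e2⟩
  · exact ⟨[1, 3, 1, 2, 1, 4, 3, 4, 2, 4] ++ [0, 0], by simp [reps], by rw [map_mul, e2, e3, V_append]⟩

/-- **Normal form of an outer involutory automorphism.** -/
theorem norm_form {α : MulAut Cfsg.Spor.HN} (hα : ∀ g : Cfsg.Spor.HN, α ≠ MulAut.conj g) (hx : α Pres.hx = Pres.hx)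
    (hy : α Pres.hy = Pres.hy) (hz : α Pres.hz = Pres.hz * Pres.hx ^ 2) (ht : α Pres.ht = Pres.ht ^ 2)
    {a : MulAut Cfsg.Spor.HN} (haa : a * a = 1) (hout : ∀ g : Cfsg.Spor.HN, a ≠ MulAut.conj g) :
    ∃ (b : MulAut Cfsg.Spor.HN) (ρ : List ℕ), ρ ∈ reps ∧ b * a * b⁻¹ = MulAut.conj (V ρ) * α := by
  have hfin := KFacts.HN.finite_HN
  have hKn : K.Normal := K_normal
  have hαψ := alpha_ψ hx hy hz
  obtain ⟨u, hu, hau⟩ := fix_two haa hout
  obtain ⟨g, hg⟩ := isConj_iff.1 hu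
  set b := MulAut.conj g * a * (MulAut.conj g)⁻¹ with hb
  have hb' : ∀ x, b x = g * a (g⁻¹ * x * g) * g⁻¹ := fun x => H287.OutHN.conj_apply' g x a
  have e1 : b * b = 1 := by
    rw [hb]
    calc MulAut.conj g * a * (MulAut.conj g)⁻¹ * (MulAut.conj g * a * (MulAut.conj g)⁻¹)
        = MulAut.conj g * (a * a) * (MulAut.conj g)⁻¹ := by group
      _ = 1 := by rw [haa]; group
  have e2 : b (NormalH.ψ τ) = NormalH.ψ τ := by
    have h1 : g⁻¹ * NormalH.ψ τ * g = u := by rw [← hg]; group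
    rw [hb', h1, hau, hg]
  have e3 : ∀ x, b ≠ MulAut.conj x := by
    intro x hx
    apply hout (g⁻¹ * x * g)
    rw [map_mul, map_mul, ← hx, hb, map_inv]
    group
  obtain ⟨D⟩ := H287.OutHN.exists_D
  obtain ⟨h, hh⟩ := H287.OutHN.exists_h D e2
  set γ := (MulAut.conj (NormalH.ψ h))⁻¹ * b with hγ
  have hγo : ∀ x, γ ≠ MulAut.conj x := by
    intro x hx
    apply e3 (NormalH.ψ h * x)
    rw [map_mul, ← hx, hγ, mul_inv_cancel_left]
  obtain ⟨c, hc⟩ := exists_mul hα hγo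
  have hcK : ∀ k ∈ K, c * NormalH.ψ k = NormalH.ψ k * c := by
    intro k hk
    have h1 : γ (NormalH.ψ k) = NormalH.ψ k := by
      rw [hγ, MulAut.mul_apply, hh k hk, ← map_inv, MulAut.conj_apply, inv_inv, ← map_inv, ← map_mul, ← map_mul]
      congr 1
      group
    rw [hc, MulAut.mul_apply, hαψ, twist_of_mem hk, MulAut.conj_apply] at h1
    exact mul_inv_eq_iff_eq_mul.1 h1
  obtain ⟨c', rfl⟩ := KFacts.HN.emb.cent c (hcK τ τ_mem_K)
  have hc' : ∀ k ∈ K, c' * k = k * c' := by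
    intro k hk
    apply KFacts.HN.emb.inj
    rw [map_mul, map_mul]
    exact hcK k hk
  -- `b = conj (ψ h₁) α`
  obtain ⟨h₁, hbh⟩ : ∃ h₁ : H0, b = MulAut.conj (NormalH.ψ h₁) * α := by
    refine ⟨h * c', ?_⟩
    change γ = MulAut.conj (NormalH.ψ c') * α at hc
    rw [map_mul, map_mul, mul_assoc, ← hc, hγ, mul_inv_cancel_left]
  have hact : ∀ k ∈ K, b (NormalH.ψ k) = NormalH.ψ (h₁ * k * h₁⁻¹) := by
    intro k hk
    rw [hbh, MulAut.mul_apply, hαψ, twist_of_mem hk, MulAut.conj_apply, map_mul, map_mul, map_inv]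
  have hsq : h₁ ^ 2 = 1 ∨ h₁ ^ 2 = τ := by
    apply StepFive.eq_of_comm_K
    intro k hk
    have h1 : b (b (NormalH.ψ k)) = NormalH.ψ k := DFunLike.congr_fun e1 (NormalH.ψ k)
    rw [hact k hk, hact _ (hKn.conj_mem k hk h₁)] at h1
    have h2 := KFacts.HN.emb.inj h1
    rw [pow_two]
    calc h₁ * h₁ * k = h₁ * (h₁ * k * h₁⁻¹) * h₁⁻¹ * (h₁ * h₁) := by group
      _ = k * (h₁ * h₁) := by rw [h2]
  -- the elements of `K` of square one
  have bad : h₁ ∈ K → h₁ ^ 2 ≠ 1 := by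
    intro hK h2
    apply alpha_sq_ne ht
    have h3 : b * b = MulAut.conj (NormalH.ψ h₁) * (α * MulAut.conj (NormalH.ψ h₁)) * α := by
      rw [hbh]; group
    have h4 : α * MulAut.conj (NormalH.ψ h₁) = MulAut.conj (NormalH.ψ h₁) * α := by
      rw [mul_conj α (NormalH.ψ h₁), hαψ, twist_of_mem hK]
    have h5 : MulAut.conj (NormalH.ψ h₁) * MulAut.conj (NormalH.ψ h₁) = 1 := by
      rw [← map_mul, ← map_mul, ← pow_two, h2, map_one, map_one]
    rw [h4] at h3
    calc α * α = (MulAut.conj (NormalH.ψ h₁) * MulAut.conj (NormalH.ψ h₁)) * (α * α) := by rw [h5, one_mul]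
      _ = MulAut.conj (NormalH.ψ h₁) * (MulAut.conj (NormalH.ψ h₁) * α) * α := by group
      _ = b * b := h3.symm
      _ = 1 := e1
  -- the conclusion for `h₁` conjugate to `r`
  have main : ∀ r : H0, (r = gx ∨ r = gz ∨ r = Syl.d) → IsConj r h₁ →
      ∃ (b : MulAut Cfsg.Spor.HN) (ρ : List ℕ), ρ ∈ reps ∧ b * a * b⁻¹ = MulAut.conj (V ρ) * α := by
    intro r hr hrh
    obtain ⟨d, hd⟩ := isConj_iff.1 hrh
    have hs : r * (d⁻¹ * twist d) = r ∨ r * (d⁻¹ * twist d) = r * τ := by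
      by_cases hdK : d ∈ K
      · left; rw [twist_of_mem hdK, inv_mul_cancel, mul_one]
      · right; rw [twist_of_not hdK, inv_mul_cancel_left]
    obtain ⟨ρ, hρ, hV⟩ := mem_reps hr hs
    refine ⟨MulAut.conj (NormalH.ψ d⁻¹) * MulAut.conj g, ρ, hρ, ?_⟩
    have h1 : MulAut.conj (NormalH.ψ d⁻¹) * MulAut.conj g * a * (MulAut.conj (NormalH.ψ d⁻¹) * MulAut.conj g)⁻¹ =
        MulAut.conj (NormalH.ψ d⁻¹) * b * MulAut.conj (NormalH.ψ d) := by
      rw [hb, map_inv, map_inv]; group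
    rw [h1, hbh]
    calc MulAut.conj (NormalH.ψ d⁻¹) * (MulAut.conj (NormalH.ψ h₁) * α) * MulAut.conj (NormalH.ψ d)
        = MulAut.conj (NormalH.ψ d⁻¹) * MulAut.conj (NormalH.ψ h₁) * (α * MulAut.conj (NormalH.ψ d)) := by group
      _ = MulAut.conj (NormalH.ψ d⁻¹) * MulAut.conj (NormalH.ψ h₁) * MulAut.conj (NormalH.ψ (twist d)) * α := by
          rw [mul_conj α (NormalH.ψ d), hαψ]; group
      _ = MulAut.conj (NormalH.ψ (r * (d⁻¹ * twist d))) * α := by
          rw [← map_mul, ← map_mul, ← map_mul, ← map_mul, ← hd]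
          congr 3
          group
      _ = MulAut.conj (V ρ) * α := by rw [hV]
  rcases Syl.sq_cases hsq with h1 | h1 | h1 | h1 | h1 | h1 | h1
  · exact absurd (by rw [h1, one_pow]) (bad (by rw [h1]; exact K.one_mem))
  · exact absurd (by rw [h1, pow_two, τ_mul_τ]) (bad (by rw [h1]; exact τ_mem_K))
  · exact absurd (by rw [Syl.sq_of_isConj h1 (Or.inl Syl.a_sq'), Syl.a_sq'])
      (bad ((Classes.mem_K_of_isConj h1).1 KFacts.HS.DFour.aa_mem_K))
  · exact absurd (by rw [Syl.sq_of_isConj h1 (Or.inl Syl.aτ_sq), Syl.aτ_sq])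
      (bad ((Classes.mem_K_of_isConj h1).1 (K.mul_mem KFacts.HS.DFour.aa_mem_K τ_mem_K)))
  · exact main gx (Or.inl rfl) h1
  · exact main gz (Or.inr (Or.inl rfl)) h1
  · exact main Syl.d (Or.inr (Or.inr rfl)) h1

/-- a representative with an explicit `x` -/
theorem good_rep (known : Cfsg.Agent.H257.El.Known.{0}) {α : MulAut Cfsg.Spor.HN} (hx : α Pres.hx = Pres.hx)
    (hy : α Pres.hy = Pres.hy) (hz : α Pres.hz = Pres.hz * Pres.hx ^ 2) (ht : α Pres.ht = Pres.ht ^ 2) {ρ w : List ℕ}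
    (hρ : ∀ c ∈ ρ, c < 8 ∧ c ≠ 5) (hw : ∀ c ∈ w, c < 8 ∧ c ≠ 5) (h19 : V w ^ 19 = 1 ∧ V w ≠ 1)
    (h11 : V (ρ ++ (w.flatMap sb ++ (iv ρ ++ (w ++ w)))) ^ 11 = 1 ∧ V (ρ ++ (w.flatMap sb ++ (iv ρ ++ (w ++ w)))) ≠ 1) :
    GoodA (MulAut.conj (V ρ) * α) := by
  have hfin := KFacts.HN.finite_HN
  refine ⟨V w, fun L hL ha => ?_⟩
  rw [a_word (θ := α.toMonoidHom) hx hy hz ht ρ w hρ hw] at h11
  have key : ∀ (p : ℕ) (y : Cfsg.Spor.HN), p.Prime → y ∈ L → y ^ p = 1 ∧ y ≠ 1 → p ∣ Nat.card L := by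
    intro p y hp hy h
    have : Fact p.Prime := ⟨hp⟩
    have h1 : orderOf (⟨y, hy⟩ : L) = p := by
      rw [Subgroup.orderOf_mk]
      exact orderOf_eq_prime h.1 h.2
    rw [← h1]
    exact orderOf_dvd_natCard _
  refine Cfsg.Agent.H315.SpHN.top_of known (key 19 _ (by norm_num) hL h19) (key 11 _ (by norm_num) ?_ h11)
  refine L.mul_mem (L.mul_mem ?_ hL) hL
  exact ha _ hL

/-- **The outer involutory automorphisms of `HN`.** -/
theorem hn_outer (known : Cfsg.Agent.H257.El.Known.{0}) (a : MulAut Cfsg.Spor.HN) (ha : orderOf a = 2)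
    (hout : ∀ g : Cfsg.Spor.HN, a ≠ MulAut.conj g) : GoodA a := by
  obtain ⟨α, hα, hx, hy, hz, ht⟩ := exists_outer'
  have haa : a * a = 1 := by rw [← pow_two, ← ha, pow_orderOf_eq_one]
  obtain ⟨b, ρ, hρ, hb⟩ := norm_form hα hx hy hz ht haa hout
  apply GoodA.of_conj b
  rw [hb]
  simp only [reps, List.mem_cons, List.not_mem_nil, or_false] at hρ
  rcases hρ with rfl | rfl | rfl | rfl | rfl | rfl
  · exact good_rep known hx hy hz ht (w := [3, 7, 1, 2, 4, 7, 3]) (by decide) (by decide) (ord_of c0) (ord_of d0)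
  · exact good_rep known hx hy hz ht (w := [2, 4, 3, 1, 2, 6]) (by decide) (by decide) (ord_of c1) (ord_of d1)
  · exact good_rep known hx hy hz ht (w := [4, 3, 1, 2, 2, 7]) (by decide) (by decide) (ord_of c2) (ord_of d2)
  · exact good_rep known hx hy hz ht (w := [3, 3, 1, 6, 2, 4]) (by decide) (by decide) (ord_of c3) (ord_of d3)
  · exact good_rep known hx hy hz ht (w := [6, 4, 6, 1, 3, 4, 3]) (by decide) (by decide) (ord_of c4) (ord_of d4)
  · exact good_rep known hx hy hz ht (w := [0, 6, 4, 6, 3, 4, 3]) (by decide) (by decide) (ord_of c5) (ord_of d5)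

end Cfsg.Agent.H546.SH
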