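import Cfsg.Agent.KFacts.HN.Aut0
import Cfsg.Agent.H287.HNd

/-!
# S3938, row `HN`: an outer involutory automorphism of `HN` fixes an involution with centralizer `2.HS.2` (helper546)

Let `a` fix `W0`. It acts on the masks as `PHI` followed by the matrix of an element of `C(W0)`; a kernel check over the
7200 matrices finds masks `v, v', v ^^^ v'` in `DD` fixed by `a`: one of them has a preimage fixed by `a`.
-/

set_option autoImplicit false

namespace Cfsg.Agent.H546.SH

open Subgroup Cfsg
open Cfsg.Agent.HN Cfsg.Agent.HN.Pres Cfsg.Agent.HN.P1408 Cfsg.Agent.HN.H0Basic Cfsg.Agent.HN.XMat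
open Cfsg.Agent.HN.XStruct Cfsg.Agent.HN.XWords Cfsg.Agent.HN.XQuot Cfsg.Agent.HN.XInst Cfsg.Agent.KFacts.HN

/-- three masks of `DD` with sum zero fixed by `M` -/
def trip (M : ℕ) : Bool :=
  DD.any fun v => bif Nat.beq (app M v) v then DD.any (fun v' => bif Nat.beq (app M v') v' then
    DD.any (fun u => Nat.beq u (Nat.xor v v')) else false) else false

/-- the matrix `PHI M`, if it is an involution -/
def cl3 (M : ℕ) : Bool :=
  force (mul PHI M) fun N => force (mul N N) fun Q => bif Nat.beq Q MI then trip N else true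

theorem chk3 : S5M.all (fun A => DM.all (fun B => force (mul A B) cl3)) = true := by decide +kernel

theorem chkDD' : DD.all (fun m => CD.testBit m) = true := by decide +kernel

theorem beq_true {a b : ℕ} (h : Nat.beq a b = true) : a = b := Nat.eq_of_beq_eq_true h

theorem trip_spec {M : ℕ} (h : trip M = true) : ∃ v ∈ DD, ∃ v' ∈ DD, v ^^^ v' ∈ DD ∧ app M v = v ∧ app M v' = v' := by
  unfold trip at h
  rw [List.any_eq_true] at h
  obtain ⟨v, hv, h⟩ := h
  cases h1 : Nat.beq (app M v) v
  · rw [h1, cond_false] at h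
    exact (Bool.false_ne_true h).elim
  · rw [h1, cond_true, List.any_eq_true] at h
    obtain ⟨v', hv', h⟩ := h
    cases h2 : Nat.beq (app M v') v'
    · rw [h2, cond_false] at h
      exact (Bool.false_ne_true h).elim
    · rw [h2, cond_true, List.any_eq_true] at h
      obtain ⟨u, hu, h⟩ := h
      have h3 : u = v ^^^ v' := beq_true h
      exact ⟨v, hv, v', hv', by rw [← h3]; exact hu, beq_true h1, beq_true h2⟩

theorem cl3_spec {w w' : List ℕ} (hw : w ∈ S5W) (hw' : w' ∈ DW) {N : ℕ} (hN : N = mul PHI (mul (mw w) (mw w')))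
    (hi : mul N N = MI) : ∃ v ∈ DD, ∃ v' ∈ DD, v ^^^ v' ∈ DD ∧ app N v = v ∧ app N v' = v' := by
  have h1 := List.all_eq_true.1 (List.all_eq_true.1 chk3 _ (mem_S5M hw)) _ (mem_DM hw')
  rw [force_eq] at h1
  unfold cl3 at h1
  rw [force_eq, force_eq, ← hN, hi] at h1
  have h2 : Nat.beq MI MI = true := by decide
  rw [h2] at h1
  exact trip_spec h1

theorem DD_color {m : ℕ} (h : m ∈ DD) : CD.testBit m = true := List.all_eq_true.1 chkDD' _ h

/-- **The case `a W0 = W0`.** -/
theorem fix_of_W0 {a : MulAut Cfsg.Spor.HN} (haa : a * a = 1) (hW : a W0 = W0) (hout : ∀ g, a ≠ MulAut.conj g) :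
    ∃ u : Cfsg.Spor.HN, IsConj (Q 0) u ∧ a u = u := by
  have hfin := finite_HN
  obtain ⟨u, hu, h | h⟩ := aut_form hW
  · exfalso
    have hW' : (MulAut.conj u * a) W0 = W0 := by
      rw [MulAut.mul_apply, hW]
      exact conj_fix hu
    obtain ⟨y, -, hy⟩ := aut0 hW' (triv_of_masks hW' h)
    apply hout (u⁻¹ * y)
    rw [map_mul, ← hy, map_inv, inv_mul_cancel_left]
  · obtain ⟨w, hw, w', hw', hact⟩ := exists_acts (π W0 u)
    set P := mul (mw w) (mw w') with hP
    set N := mul PHI P with hN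
    have hsg : ∀ c, a (sgn0 c) = sgn0 c := by
      intro c; cases c
      · exact map_one a
      · exact hW
    have hval : ∀ m < 256, ∃ b : Bool, a (r Q m) = r Q (app N m) * sgn0 b := by
      intro m hm
      obtain ⟨b, hb⟩ := h m hm
      obtain ⟨c, hc⟩ := r_conj hu hact (app PHI m)
      rw [MulAut.mul_apply, MulAut.conj_apply] at hb
      refine ⟨c ^^ b, ?_⟩
      have h1 : a (r Q m) = u⁻¹ * (r Q (app PHI m) * sgn0 b) * u := by rw [← hb]; group
      have h2 := sgn_comm b hu
      rw [h1, hN, app_mul, ← sgn0_mul, ← mul_assoc (r Q _), ← hc]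
      calc u⁻¹ * (r Q (app PHI m) * sgn0 b) * u = u⁻¹ * r Q (app PHI m) * (sgn0 b * u) := by group
        _ = u⁻¹ * r Q (app PHI m) * u * sgn0 b := by rw [← h2]; group
    have hinv : ∀ m < 256, app N (app N m) = m := by
      intro m hm
      obtain ⟨b, hb⟩ := hval m hm
      obtain ⟨b', hb'⟩ := hval _ (app_lt N m)
      have h1 : a (a (r Q m)) = r Q m := DFunLike.congr_fun haa (r Q m)
      rw [hb, map_mul, hsg, hb', mul_assoc, sgn0_mul] at h1
      refine mask_unique (app_lt _ _) hm (b := b' ^^ b) (b' := false) ?_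
      rw [h1, show sgn0 false = 1 from rfl, mul_one]
    have hMI : mul N N = MI := by
      refine pack_ext (mul_lt _ _) MI_lt fun i hi => ?_
      rw [row_mul _ _ hi, row_MI hi, ← app_pow N hi]
      exact hinv _ (Nat.pow_lt_pow_right (by norm_num) hi)
    obtain ⟨v, hv, v', hv', hvv, e1, e2⟩ := cl3_spec hw hw' hN hMI
    obtain ⟨b, hb⟩ := hval v (DD_lt hv)
    obtain ⟨b', hb'⟩ := hval v' (DD_lt hv')
    rw [e1] at hb
    rw [e2] at hb'
    cases b
    · refine ⟨r Q v, ?_, by rw [hb]; exact mul_one _⟩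
      have := kind_D (DD_lt hv) (DD_color hv) false
      rwa [show sgn0 false = 1 from rfl, mul_one] at this
    · cases b'
      · refine ⟨r Q v', ?_, by rw [hb']; exact mul_one _⟩
        have := kind_D (DD_lt hv') (DD_color hv') false
        rwa [show sgn0 false = 1 from rfl, mul_one] at this
      · obtain ⟨c, hc⟩ := r_mul (a := v) (b := v')
        refine ⟨r Q (v ^^^ v') * sgn0 c, kind_D (DD_lt hvv) (DD_color hvv) c, ?_⟩
        rw [← hc, map_mul, hb, hb']
        have h2 := sgn_comm true (r_mem_PP v')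
        calc r Q v * sgn0 true * (r Q v' * sgn0 true) = r Q v * (sgn0 true * r Q v') * sgn0 true := by group
          _ = r Q v * r Q v' * (sgn0 true * sgn0 true) := by rw [← h2]; group
          _ = r Q v * r Q v' := by rw [sgn0_mul]; exact mul_one _

/-- **An outer involutory automorphism fixes an involution conjugate to `ψ τ`.** -/
theorem fix_two {a : MulAut Cfsg.Spor.HN} (haa : a * a = 1) (hout : ∀ g, a ≠ MulAut.conj g) :
    ∃ u : Cfsg.Spor.HN, IsConj u (NormalH.ψ τ) ∧ a u = u := by
  have hfin := finite_HN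
  have he : Even (Nat.card ↥(centralizer ({(1 : Cfsg.Spor.HN)} : Set Cfsg.Spor.HN))) := by
    have h1 : centralizer ({(1 : Cfsg.Spor.HN)} : Set Cfsg.Spor.HN) = ⊤ := by
      rw [eq_top_iff]
      intro x _
      rw [mem_centralizer_singleton_iff, mul_one, one_mul]
    rw [h1, Subgroup.card_top, Cfsg.Agent.KFacts.HN.Classes.card_HN]
    decide
  obtain ⟨u, hu, hau, -⟩ := H291.Parity.exists_comm_invo a haa (map_one a) he
  rcases Cfsg.Agent.KFacts.HN.Classes.inv_class hu with h | h
  · exact ⟨u, h, hau⟩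
  · obtain ⟨g, hg⟩ := isConj_iff.1 h
    set b := MulAut.conj g * a * (MulAut.conj g)⁻¹ with hb
    have hb' : ∀ x, b x = g * a (g⁻¹ * x * g) * g⁻¹ := fun x => H287.OutHN.conj_apply' g x a
    have e1 : b * b = 1 := by
      rw [hb]
      calc MulAut.conj g * a * (MulAut.conj g)⁻¹ * (MulAut.conj g * a * (MulAut.conj g)⁻¹)
          = MulAut.conj g * (a * a) * (MulAut.conj g)⁻¹ := by group
        _ = 1 := by rw [haa]; group
    have e2 : b W0 = W0 := by
      have h1 : g⁻¹ * W0 * g = u := by rw [← hg]; group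
      rw [hb', h1, hau, hg]
    have e3 : ∀ x, b ≠ MulAut.conj x := by
      intro x hx
      apply hout (g⁻¹ * x * g)
      rw [map_mul, map_mul, ← hx, hb, map_inv]
      group
    obtain ⟨v, hv, hbv⟩ := fix_of_W0 e1 e2 e3
    refine ⟨g⁻¹ * v * g, ?_, ?_⟩
    · refine IsConj.trans ?_ (hv.symm.trans ?_)
      · rw [isConj_iff]
        exact ⟨g, by group⟩
      · rw [Cfsg.Agent.KFacts.HN.Q0_eq]
    · rw [hb'] at hbv
      have h1 : a (g⁻¹ * v * g) = g⁻¹ * (g * a (g⁻¹ * v * g) * g⁻¹) * g := by group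
      rw [h1, hbv]

end Cfsg.Agent.H546.SH
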